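import Mathlib
import Cfsg.Agent.H192.Dp.Res

/-!
# Good primes: subgroups, automizers by eigenvalues (helper491, project S5734, DP9)

* `GoodP.sub`, `GoodP.congr` : good primes of subgroups;
* `relIndex_le` : the automizer of a subgroup of order `u` from a counting function;
* `exists_eig` : an eigenvalue `≠ 1` of a matrix of order `u`;
* `aut_le` : `|N(⟨x⟩) : C(x)| ≤ n` in a central quotient (of order prime to `u`) of a linear group of degree `n`.
-/

set_option autoImplicit false

namespace Cfsg.Agent.H491.Dp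

open Subgroup Cfsg.Agent.H192.Dp

section sub

variable {G : Type*} [Group G] [Finite G] {u w : ℕ}

omit [Finite G] in
/-- all `u`-subgroups are cyclic -/
theorem isCyclic_of_good (h : GoodP G u w) {Q : Subgroup G} (hQ : IsPGroup u Q) : IsCyclic Q := by
  have := Fact.mk h.prime
  obtain ⟨P, hP⟩ := hQ.exists_le_sylow
  have := h.cyc P
  exact isCyclic_of_injective (Subgroup.inclusion hP) (Subgroup.inclusion_injective hP)

theorem GoodP.sub (h : GoodP G u w) (Y : Subgroup G) (hY : u ∣ Nat.card Y) : GoodP Y u w where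
  prime := h.prime
  cyc P := by
    have h1 : IsPGroup u ((P : Subgroup Y).map Y.subtype) := P.isPGroup'.map _
    have h2 := isCyclic_of_good h h1
    exact isCyclic_of_injective
      ((P : Subgroup Y).equivMapOfInjective Y.subtype Y.subtype_injective).toMonoidHom (MulEquiv.injective _)
  dvd := hY
  aut x hx := by
    have hx' : orderOf (x : G) = u := by rw [Subgroup.orderOf_coe, hx]
    refine le_trans ?_ (h.aut x hx')
    have hc : centralizer ({x} : Set Y) = (centralizer ({(x : G)} : Set G)).subgroupOf Y := by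
      ext y
      rw [mem_subgroupOf, mem_centralizer_singleton_iff, mem_centralizer_singleton_iff]
      exact ⟨fun h => congrArg Subtype.val h, fun h => Subtype.ext h⟩
    have hn : normalizer (zpowers x : Set Y) ≤ (normalizer (zpowers (x : G) : Set G)).subgroupOf Y := by
      intro y hy
      rw [mem_subgroupOf]
      have h1 : ((y : G) * x * (y : G)⁻¹) ∈ zpowers (x : G) := by
        have h2 := (mem_normalizer_iff.1 hy x).1 (mem_zpowers x)
        obtain ⟨k, hk⟩ := mem_zpowers_iff.1 h2
        exact mem_zpowers_iff.2 ⟨k, by simpa using congrArg Subtype.val hk⟩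
      have h3 : ∀ z ∈ zpowers (x : G), (y : G) * z * (y : G)⁻¹ ∈ zpowers (x : G) := by
        rintro z ⟨k, rfl⟩
        have h4 : (y : G) * (fun i : ℤ => (x : G) ^ i) k * (y : G)⁻¹ = ((y : G) * x * (y : G)⁻¹) ^ k :=
          (conj_zpow (i := k) (a := (y : G)) (b := (x : G))).symm
        rw [h4]
        exact zpow_mem h1 k
      have h5 : (zpowers (x : G)).map (MulAut.conj (y : G)).toMonoidHom = zpowers (x : G) := by
        apply Subgroup.eq_of_le_of_card_ge
        · rintro _ ⟨z, hz, rfl⟩
          exact h3 z hz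
        · rw [Subgroup.card_map_of_injective (MulAut.conj (y : G)).injective]
      rw [mem_normalizer_iff]
      intro z
      refine ⟨h3 z, fun hz => ?_⟩
      rw [← h5] at hz
      obtain ⟨z', hz', h6⟩ := hz
      have h7 : (y : G) * z' * (y : G)⁻¹ = y * z * (y : G)⁻¹ := h6
      rw [← mul_left_cancel (mul_right_cancel h7)]
      exact hz'
    rw [hc]
    have h1 : ((centralizer ({(x : G)} : Set G)).subgroupOf Y).relIndex
        ((normalizer (zpowers (x : G) : Set G)).subgroupOf Y) ≤
        (centralizer ({(x : G)} : Set G)).relIndex (normalizer (zpowers (x : G) : Set G)) := by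
      rw [← Subgroup.inf_subgroupOf_right (normalizer (zpowers (x : G) : Set G)) Y,
        Subgroup.relIndex_subgroupOf inf_le_right]
      exact Subgroup.relIndex_le_of_le_right inf_le_left (Subgroup.FiniteIndex.index_ne_zero (H := _))
    refine le_trans ?_ h1
    exact Subgroup.relIndex_le_of_le_right hn (Subgroup.FiniteIndex.index_ne_zero (H := _))

theorem GoodP.congr {K : Type*} [Group K] (e : K ≃* G) (h : GoodP G u w) : GoodP K u w where
  prime := h.prime
  cyc P := by
    have : Finite K := Finite.of_equiv _ e.symm.toEquiv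
    have h1 : IsPGroup u ((P : Subgroup K).map e.toMonoidHom) := P.isPGroup'.map _
    have h2 := isCyclic_of_good h h1
    exact isCyclic_of_injective
      ((P : Subgroup K).equivMapOfInjective e.toMonoidHom e.injective).toMonoidHom (MulEquiv.injective _)
  dvd := by
    rw [Nat.card_congr e.toEquiv]
    exact h.dvd
  aut x hx := by
    have : Finite K := Finite.of_equiv _ e.symm.toEquiv
    have hx' : orderOf (e x) = u := by rw [MulEquiv.orderOf_eq, hx]
    have h1 := h.aut (e x) hx'
    have hc : (centralizer ({x} : Set K)) = (centralizer ({e x} : Set G)).comap e.toMonoidHom := by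
      ext y
      rw [mem_comap, mem_centralizer_singleton_iff, mem_centralizer_singleton_iff]
      show _ ↔ e y * e x = e x * e y
      rw [← map_mul, ← map_mul]
      exact ⟨fun h => congrArg e h, fun h => e.injective h⟩
    have hn : normalizer (zpowers x : Set K) ≤ (normalizer (zpowers (e x) : Set G)).comap e.toMonoidHom := by
      intro y hy
      rw [mem_comap, mem_normalizer_iff]
      intro z
      obtain ⟨z, rfl⟩ := e.surjective z
      have hm : ∀ z : K, e z ∈ zpowers (e x) ↔ z ∈ zpowers x := by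
        intro z
        rw [mem_zpowers_iff, mem_zpowers_iff]
        constructor
        · rintro ⟨k, hk⟩
          exact ⟨k, e.injective (by rw [map_zpow, hk])⟩
        · rintro ⟨k, rfl⟩
          exact ⟨k, by rw [map_zpow]⟩
      show e z ∈ zpowers (e x) ↔ e y * e z * (e y)⁻¹ ∈ zpowers (e x)
      rw [← map_inv, ← map_mul, ← map_mul, hm, hm]
      exact mem_normalizer_iff.1 hy z
    rw [hc]
    refine (Subgroup.relIndex_le_of_le_right hn (Subgroup.FiniteIndex.index_ne_zero (H := _))).trans ?_
    rwa [Subgroup.relIndex_comap, Subgroup.map_comap_eq_self_of_surjective e.surjective]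

end sub

/-! ### Automizers -/

section aut

/-- the automizer from a counting function -/
theorem relIndex_le {D : Type*} [Group D] [Finite D] {x : D} {K : Type*} (φ : ℕ → K) (S : Finset K)
    (h1 : ∀ (g : D) (k : ℕ), g * x * g⁻¹ = x ^ k → φ k ∈ S) (h2 : ∀ k k' : ℕ, φ k = φ k' → x ^ k = x ^ k') :
    (centralizer ({x} : Set D)).relIndex (normalizer (zpowers x : Set D)) ≤ S.card := by
  classical
  set N := normalizer (zpowers x : Set D) with hN
  have hk : ∀ g : N, ∃ k : ℕ, (g : D) * x * (g : D)⁻¹ = x ^ k := by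
    intro g
    have h3 := (mem_normalizer_iff.1 g.2 x).1 (mem_zpowers x)
    obtain ⟨k, hk⟩ := (Submonoid.mem_powers_iff _ _).1 ((mem_powers_iff_mem_zpowers).2 h3)
    exact ⟨k, hk.symm⟩
  choose k hk using hk
  unfold Subgroup.relIndex Subgroup.index
  let f : (N ⧸ (centralizer ({x} : Set D)).subgroupOf N) → S := fun q => ⟨φ (k q.out), h1 _ _ (hk q.out)⟩
  have hf : Function.Injective f := by
    intro q q' h
    have h3 := h2 _ _ (congrArg Subtype.val h)
    rw [← hk, ← hk] at h3
    rw [← Quotient.out_eq' q, ← Quotient.out_eq' q', QuotientGroup.eq, mem_subgroupOf, mem_centralizer_singleton_iff]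
    show ((q.out : N) : D)⁻¹ * ((q'.out : N) : D) * x = x * (((q.out : N) : D)⁻¹ * ((q'.out : N) : D))
    generalize ((q.out : N) : D) = a at h3 ⊢
    generalize ((q'.out : N) : D) = b at h3 ⊢
    calc a⁻¹ * b * x = a⁻¹ * (b * x * b⁻¹) * b := by group
      _ = a⁻¹ * (a * x * a⁻¹) * b := by rw [h3]
      _ = _ := by group
  have h4 := Nat.card_le_card_of_injective f hf
  rwa [Nat.card_eq_fintype_card (α := S), Fintype.card_coe] at h4

open Matrix in
/-- an eigenvalue `≠ 1` of a matrix of order `u` -/
theorem exists_eig {K : Type*} [Field K] [IsAlgClosed K] {n : ℕ} {M : Matrix (Fin n) (Fin n) K} {u : ℕ}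
    (hu : (u : K) ≠ 0) (hM : M ^ u = 1) (hM1 : M ≠ 1) :
    ∃ ζ : K, ζ ^ u = 1 ∧ ζ ≠ 1 ∧ ∃ v : Fin n → K, v ≠ 0 ∧ M *ᵥ v = ζ • v := by
  set f : Module.End K (Fin n → K) := Matrix.toLin' M with hf
  have hfu : f ^ u = 1 := by
    rw [hf, ← Matrix.toLin'_pow, hM, Matrix.toLin'_one]
    rfl
  set N : Module.End K (Fin n → K) := ∑ i ∈ Finset.range u, f ^ i with hNd
  have hfN : f * N = N * f := by
    rw [hNd, Finset.mul_sum, Finset.sum_mul]
    refine Finset.sum_congr rfl fun i _ => ?_
    rw [← pow_succ, ← pow_succ']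
  have hN1 : N * (f - 1) = 0 := by
    rw [hNd, geom_sum_mul, hfu, sub_self]
  set W := LinearMap.ker N with hW
  have hfW : ∀ w ∈ W, f w ∈ W := by
    intro w hw
    rw [hW, LinearMap.mem_ker] at hw ⊢
    have h1 : (N * f) w = (f * N) w := by rw [hfN]
    have h2 : N (f w) = f (N w) := h1
    rw [h2, hw, map_zero]
  have hnt : Nontrivial W := by
    have h1 : ∃ v, f v ≠ v := by
      by_contra h
      push Not at h
      apply hM1
      apply Matrix.toLin'.injective
      rw [Matrix.toLin'_one]
      ext1 v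
      exact LinearMap.ext fun w => h _ 
    obtain ⟨v, hv⟩ := h1
    refine ⟨⟨⟨f v - v, ?_⟩, 0, ?_⟩⟩
    · rw [hW, LinearMap.mem_ker]
      exact congrArg (fun g : Module.End K (Fin n → K) => g v) hN1
    · intro h
      apply hv
      exact sub_eq_zero.1 (congrArg Subtype.val h)
  obtain ⟨ζ, hζ⟩ := Module.End.exists_eigenvalue (f.restrict hfW)
  obtain ⟨w, hw⟩ := hζ.exists_hasEigenvector
  have hw0 : (w : Fin n → K) ≠ 0 := fun h => hw.2 (Subtype.ext h)
  have hfw : f w = ζ • (w : Fin n → K) := congrArg Subtype.val hw.apply_eq_smul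
  have hpow : ∀ i : ℕ, (f ^ i) w = ζ ^ i • (w : Fin n → K) := by
    intro i
    induction i with
    | zero => simp
    | succ i ih => rw [pow_succ', Module.End.mul_apply, ih, map_smul, hfw, smul_smul, pow_succ]
  refine ⟨ζ, ?_, ?_, w, hw0, ?_⟩
  · have h1 := hpow u
    rw [hfu, Module.End.one_apply] at h1
    have h2 : (ζ ^ u - 1) • (w : Fin n → K) = 0 := by rw [sub_smul, one_smul, ← h1, sub_self]
    exact sub_eq_zero.1 ((smul_eq_zero.1 h2).resolve_right hw0)
  · rintro rfl
    have h1 : N w = 0 := w.2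
    rw [hNd, LinearMap.sum_apply, Finset.sum_congr rfl (fun i _ => hpow i)] at h1
    simp only [one_pow, one_smul, Finset.sum_const, Finset.card_range] at h1
    rw [← Nat.cast_smul_eq_nsmul K, smul_eq_zero] at h1
    exact h1.elim hu hw0
  · rw [← hfw, hf, Matrix.toLin'_apply]

/-- a lift of order `u` -/
theorem exists_lift {Γ D : Type*} [Group Γ] [Finite Γ] [Group D] (π : Γ →* D) (hπ : Function.Surjective π)
    {u : ℕ} (hu : u.Prime) (hcop : ¬ u ∣ Nat.card π.ker) {x : D} (hx : x ^ u = 1) :
    ∃ y : Γ, π y = x ∧ y ^ u = 1 := by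
  obtain ⟨g, rfl⟩ := hπ x
  have hc : Nat.Coprime u (Nat.card π.ker) := (Nat.Prime.coprime_iff_not_dvd hu).2 hcop
  obtain ⟨m, hm1, hm2⟩ := Nat.chineseRemainder hc 1 0
  have hk : g ^ u ∈ π.ker := by rw [MonoidHom.mem_ker, map_pow, hx]
  refine ⟨g ^ m, ?_, ?_⟩
  · rw [map_pow]
    have h1 : orderOf (π g) ∣ u := orderOf_dvd_of_pow_eq_one hx
    have h2 : m ≡ 1 [MOD orderOf (π g)] := hm1.of_dvd h1
    rw [pow_eq_pow_iff_modEq.2 h2, pow_one]
  · rw [← pow_mul, mul_comm, pow_mul]
    obtain ⟨c, hc⟩ := (Nat.modEq_zero_iff_dvd).1 hm2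
    rw [hc, pow_mul]
    have h3 : (⟨g ^ u, hk⟩ : π.ker) ^ Nat.card π.ker = 1 := pow_card_eq_one'
    have h4 : (g ^ u) ^ Nat.card π.ker = 1 := congrArg Subtype.val h3
    rw [h4, one_pow]

open Matrix in
/-- **Automizers by eigenvalues.** -/
theorem aut_le {Γ D : Type*} [Group Γ] [Finite Γ] [Group D] [Finite D] {n u : ℕ} (hu : u.Prime) (π : Γ →* D)
    (hπ : Function.Surjective π) (hker : π.ker ≤ center Γ) (hcop : ¬ u ∣ Nat.card π.ker)
    {F : Type*} [Field F] (huF : (u : F) ≠ 0) (ι : Γ →* Matrix.GeneralLinearGroup (Fin n) F)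
    (hι : Function.Injective ι) {x : D} (hx : orderOf x = u) :
    (centralizer ({x} : Set D)).relIndex (normalizer (zpowers x : Set D)) ≤ n := by
  classical
  have hxu : x ^ u = 1 := by rw [← hx, pow_orderOf_eq_one]
  obtain ⟨y, rfl, hy⟩ := exists_lift π hπ hu hcop hxu
  let K := AlgebraicClosure F
  let ρ : Γ →* Matrix (Fin n) (Fin n) K :=
    ((algebraMap F K).mapMatrix.toMonoidHom.comp (Units.coeHom _)).comp ι
  have hρ : Function.Injective ρ := by
    intro a b hab
    apply hι
    apply Units.ext
    exact Matrix.map_injective (algebraMap F K).injective hab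
  have hy1 : y ≠ 1 := by
    rintro rfl
    rw [map_one, orderOf_one] at hx
    exact hu.one_lt.ne hx
  have huK : (u : K) ≠ 0 := by
    rw [← map_natCast (algebraMap F K)]
    exact fun h => huF ((map_eq_zero _).1 h)
  obtain ⟨ζ, hζ, hζ1, v, hv, hyv⟩ := exists_eig huK (M := ρ y) (by rw [← map_pow, hy, map_one])
    (fun h => hy1 (hρ (by rw [h, map_one])))
  have hpow : ∀ k : ℕ, ρ (y ^ k) *ᵥ v = ζ ^ k • v := by
    intro k
    induction k with
    | zero => rw [pow_zero, pow_zero, map_one, Matrix.one_mulVec, one_smul]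
    | succ k ih => rw [pow_succ', map_mul, ← Matrix.mulVec_mulVec, ih, Matrix.mulVec_smul, hyv, smul_smul, pow_succ]
  refine (relIndex_le (fun k => ζ ^ k) (ρ y).charpoly.roots.toFinset ?_ ?_).trans ?_
  · intro g k hg
    obtain ⟨h, rfl⟩ := hπ g
    -- the lift
    have h1 : h * y * h⁻¹ = y ^ k := by
      have h2 : (y ^ k)⁻¹ * (h * y * h⁻¹) ∈ π.ker := by
        rw [MonoidHom.mem_ker, map_mul, map_inv, map_mul, map_mul, map_inv, hg, map_pow, inv_mul_cancel]
      set z := (y ^ k)⁻¹ * (h * y * h⁻¹) with hz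
      have hzc : ∀ g : Γ, g * z = z * g := mem_center_iff.1 (hker h2)
      have h3 : h * y * h⁻¹ = y ^ k * z := by rw [hz, mul_inv_cancel_left]
      have h4 : z ^ u = 1 := by
        have h5 : (h * y * h⁻¹) ^ u = 1 := by rw [conj_pow, hy, mul_one, mul_inv_cancel]
        rw [h3, (show Commute (y ^ k) z from hzc _).mul_pow, ← pow_mul, mul_comm k u, pow_mul, hy, one_pow, one_mul] at h5
        exact h5
      have h5 : z = 1 := by
        have h6 : orderOf z ∣ u := orderOf_dvd_of_pow_eq_one h4
        have h7 : orderOf z ∣ Nat.card π.ker := by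
          rw [← Subgroup.orderOf_mk z h2]
          exact orderOf_dvd_natCard _
        rcases (Nat.dvd_prime hu).1 h6 with h8 | h8
        · exact orderOf_eq_one_iff.1 h8
        · rw [h8] at h7
          exact absurd h7 hcop
      rw [h3, h5, mul_one]
    rw [Multiset.mem_toFinset, Polynomial.mem_roots (Matrix.charpoly_monic _).ne_zero]
    -- the eigenvector
    have h2 : ρ y *ᵥ (ρ h⁻¹ *ᵥ v) = ζ ^ k • (ρ h⁻¹ *ᵥ v) := by
      have h3 : y * h⁻¹ = h⁻¹ * y ^ k := by rw [← h1]; group
      rw [Matrix.mulVec_mulVec, ← map_mul, h3, map_mul, ← Matrix.mulVec_mulVec, hpow, Matrix.mulVec_smul]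
    have h3 : ρ h⁻¹ *ᵥ v ≠ 0 := by
      intro h4
      apply hv
      have h5 : ρ h *ᵥ (ρ h⁻¹ *ᵥ v) = v := by
        rw [Matrix.mulVec_mulVec, ← map_mul, mul_inv_cancel, map_one, Matrix.one_mulVec]
      rw [← h5, h4, Matrix.mulVec_zero]
    have h4 : Module.End.HasEigenvalue (Matrix.toLin' (ρ y)) (ζ ^ k) :=
      Module.End.hasEigenvalue_of_hasEigenvector (x := ρ h⁻¹ *ᵥ v)
        ⟨Module.End.mem_eigenspace_iff.2 (by rw [Matrix.toLin'_apply, h2]), h3⟩
    rw [Module.End.hasEigenvalue_iff_isRoot_charpoly, Matrix.charpoly_toLin'] at h4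
    exact h4
  · intro k k' hkk
    have h1 : orderOf ζ = u := by
      have := Fact.mk hu
      exact orderOf_eq_prime hζ hζ1
    have h2 : k ≡ k' [MOD u] := by
      have hz : ζ ≠ 0 := by
        rintro rfl
        rw [zero_pow hu.ne_zero] at hζ
        exact zero_ne_one hζ
      have h3 : (Units.mk0 ζ hz) ^ k = (Units.mk0 ζ hz) ^ k' := Units.ext hkk
      rw [pow_eq_pow_iff_modEq] at h3
      rwa [← orderOf_units, Units.val_mk0, h1] at h3
    exact pow_eq_pow_iff_modEq.2 (by rw [hx]; exact h2)
  · refine (Multiset.toFinset_card_le _).trans ((Polynomial.card_roots' _).trans ?_)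
    rw [Matrix.charpoly_natDegree_eq_dim, Fintype.card_fin]

/-- **Good primes of central quotients of linear groups.** -/
theorem good_range {Γ A : Type*} [Group Γ] [Finite Γ] [Group A] [Finite A] {n u : ℕ} (hu : u.Prime) (π : Γ →* A)
    (hker : π.ker ≤ center Γ) (hcop : ¬ u ∣ Nat.card π.ker) (hdvd : u ∣ Nat.card Γ)
    (hcyc : ∀ Q : Subgroup Γ, IsPGroup u Q → IsCyclic Q)
    {F : Type*} [Field F] (huF : (u : F) ≠ 0) (ι : Γ →* Matrix.GeneralLinearGroup (Fin n) F)
    (hι : Function.Injective ι) : GoodP π.range u n where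
  prime := hu
  cyc P := by
    have := Fact.mk hu
    obtain ⟨Q⟩ : Nonempty (Sylow u Γ) := inferInstance
    have hπ := π.rangeRestrict_surjective
    have hQ : IsCyclic Q := hcyc Q Q.isPGroup'
    have h1 : IsCyclic (Q.mapSurjective hπ : Subgroup π.range) := by
      have h2 : ((Q.mapSurjective hπ : Sylow u π.range) : Subgroup π.range) = (Q : Subgroup Γ).map π.rangeRestrict := rfl
      rw [h2]
      exact isCyclic_of_surjective (π.rangeRestrict.subgroupMap (Q : Subgroup Γ))
        (π.rangeRestrict.subgroupMap_surjective _)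
    exact isCyclic_of_surjective ((Q.mapSurjective hπ).equiv P).toMonoidHom ((Q.mapSurjective hπ).equiv P).surjective
  dvd := by
    have h1 := π.ker.card_mul_index
    rw [Subgroup.index_ker] at h1
    rw [← h1] at hdvd
    exact (hu.dvd_mul.1 hdvd).resolve_left hcop
  aut x hx := by
    have hk : π.rangeRestrict.ker = π.ker := MonoidHom.ker_rangeRestrict π
    exact aut_le hu π.rangeRestrict π.rangeRestrict_surjective (by rw [hk]; exact hker) (by rw [hk]; exact hcop) huF ι hι hx

end aut

/-! ### Counting -/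

section count

/-- conjugation on a normal subgroup, transported to `T` -/
def act {G T : Type*} [Group G] [Group T] (N : Subgroup G) [N.Normal] (e : N ≃* T) : G →* MulAut T :=
  (MulAut.congr e).toMonoidHom.comp MulAut.conjNormal

theorem act_apply {G T : Type*} [Group G] [Group T] (N : Subgroup G) [N.Normal] (e : N ≃* T) (g : G) (n : N) :
    act N e g (e n) = e (MulAut.conjNormal g n) := by
  show e (MulAut.conjNormal g (e.symm (e n))) = _
  rw [e.symm_apply_apply]

theorem act_injective {G T : Type*} [Group G] [Group T] (N : Subgroup G) [N.Normal] (e : N ≃* T)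
    (hC : centralizer (N : Set G) = ⊥) : Function.Injective (act N e) := by
  rw [injective_iff_map_eq_one]
  intro g hg
  have h1 : g ∈ centralizer (N : Set G) := by
    rw [mem_centralizer_iff]
    intro n hn
    have h2 := act_apply N e g ⟨n, hn⟩
    rw [hg, MulAut.one_apply] at h2
    have h3 := congrArg Subtype.val (e.injective h2)
    rw [MulAut.conjNormal_apply] at h3
    rw [← eq_mul_inv_iff_mul_eq]
    exact h3
  rw [hC, mem_bot] at h1
  exact h1

theorem act_mem {G T : Type*} [Group G] [Group T] (N : Subgroup G) [N.Normal] (e : N ≃* T) {n : G} (hn : n ∈ N) :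
    act N e n = MulAut.conj (e ⟨n, hn⟩) := by
  ext t
  obtain ⟨m, rfl⟩ := e.surjective t
  rw [act_apply, MulAut.conj_apply, ← map_inv, ← map_mul, ← map_mul]
  congr 1

/-- **The counting theorem**: `D ≤ Aut T` contains the inner automorphisms, `u ∤ |D : Inn T|`, `u` is good for `D`,
`|Aut T : D| ≤ m`. -/
theorem big {G T : Type*} [Group G] [Finite G] [Group T] [Finite T] {u w m : ℕ} {D : Subgroup (MulAut T)}
    (hD : GoodP D u w) (hInn : (MulAut.conj : T →* MulAut T).range ≤ D)
    (hidx : ¬ u ∣ (MulAut.conj : T →* MulAut T).range.relIndex D) (hDi : D.index ≤ m) (N : Subgroup G) [N.Normal]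
    (e : N ≃* T) (hC : centralizer (N : Set G) = ⊥) {H : Subgroup G} (hH : u ∣ (H.subgroupOf N).index) :
    Nat.card G ≤ m * (2 * w) * Nat.card (ders H) := by
  have hu := hD.prime
  have := Fact.mk hu
  have hT : Finite (MulAut T) := inferInstance
  set Φ := act N e with hΦ
  have hΦi : Function.Injective Φ := act_injective N e hC
  set X : Subgroup G := D.comap Φ with hX
  have hNX : N ≤ X := by
    intro n hn
    rw [hX, mem_comap, hΦ, act_mem N e hn]
    exact hInn ⟨_, rfl⟩
  -- `u` is good for `X`
  have hNr : N.map Φ = (MulAut.conj : T →* MulAut T).range := by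
    ext α
    constructor
    · rintro ⟨n, hn, rfl⟩
      rw [hΦ, act_mem N e hn]
      exact ⟨_, rfl⟩
    · rintro ⟨t, rfl⟩
      obtain ⟨n, rfl⟩ := e.surjective t
      exact ⟨n, n.2, by rw [hΦ, act_mem N e n.2]⟩
  have hXD : X.map Φ ≤ D := map_comap_le Φ D
  have hidx2 : ¬ u ∣ N.relIndex X := by
    intro h
    apply hidx
    have h1 : (N.map Φ).relIndex (X.map Φ) = N.relIndex X := Subgroup.relIndex_map_map_of_injective N X hΦi
    rw [← h1, hNr] at h
    refine h.trans (Dvd.intro _ (Subgroup.relIndex_mul_relIndex _ _ _ ?_ hXD))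
    rw [← hNr]
    exact Subgroup.map_mono hNX
  have huN : u ∣ Nat.card N := hH.trans (Subgroup.index_dvd_card _)
  have huX : u ∣ Nat.card X := huN.trans (card_dvd_of_le hNX)
  have hgX : GoodP X u w := by
    have h1 : Nat.card ((X.map Φ).subgroupOf D) = Nat.card X := by
      rw [Nat.card_congr (Subgroup.subgroupOfEquivOfLe hXD).toEquiv, Subgroup.card_map_of_injective hΦi]
    refine GoodP.congr ((X.equivMapOfInjective Φ hΦi).trans (Subgroup.subgroupOfEquivOfLe hXD).symm)
      (GoodP.sub hD _ (by rw [h1]; exact huX))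
  -- index
  have hXi : X.index ≤ m := by
    refine le_trans ?_ hDi
    rw [hX, Subgroup.index_comap]
    rw [← Subgroup.relIndex_top_right D]
    exact Subgroup.relIndex_le_of_le_right le_top (Subgroup.FiniteIndex.index_ne_zero (H := _))
  have hcX := hgX.card_le
  have hcard : Nat.card X * X.index = Nat.card G := X.card_mul_index
  -- the full elements
  have hfac : (Nat.card X).factorization u = (Nat.card N).factorization u := by
    have h1 : Nat.card X = N.relIndex X * Nat.card N := by
      rw [mul_comm, ← Nat.card_congr (Subgroup.subgroupOfEquivOfLe hNX).toEquiv]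
      exact (Subgroup.card_mul_index (N.subgroupOf X)).symm
    have h2 : N.relIndex X ≠ 0 := Subgroup.FiniteIndex.index_ne_zero (H := _)
    rw [h1, Nat.factorization_mul h2 Nat.card_pos.ne',
      Finsupp.add_apply, Nat.factorization_eq_zero_of_not_dvd hidx2, zero_add]
  have hinj : Nat.card (fullS X u) ≤ Nat.card (ders H) := by
    refine Nat.card_le_card_of_injective (fun g : fullS X u => (⟨((g : X) : G), ?_⟩ : ders H)) ?_
    · rw [mem_ders]
      intro y hy
      have hg : u ^ (Nat.card X).factorization u ∣ orderOf (g : X) := g.2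
      rw [hfac] at hg
      set a := (Nat.card N).factorization u with ha
      obtain ⟨c, hc⟩ := hg
      have hc0 : c ≠ 0 := by
        rintro rfl
        rw [mul_zero] at hc
        exact (orderOf_pos (g : X)).ne' hc
      have ho : orderOf (((g : X) : G) ^ c) = u ^ a := by
        rw [orderOf_pow_of_dvd hc0 (by rw [Subgroup.orderOf_coe, hc]; exact dvd_mul_left _ _), Subgroup.orderOf_coe, hc]
        exact Nat.mul_div_cancel _ (Nat.pos_of_ne_zero hc0)
      -- `g ^ c ∈ N`
      have hcN : ((g : X) : G) ^ c ∈ N := by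
        have h1 : ((QuotientGroup.mk' (N.subgroupOf X)) ((g : X) ^ c)) = 1 := by
          rw [← orderOf_eq_one_iff]
          have h2 : orderOf ((QuotientGroup.mk' (N.subgroupOf X)) ((g : X) ^ c)) ∣ u ^ a := by
            refine (orderOf_map_dvd _ _).trans ?_
            rw [← Subgroup.orderOf_coe, Subgroup.coe_pow, ho]
          have h3 : orderOf ((QuotientGroup.mk' (N.subgroupOf X)) ((g : X) ^ c)) ∣ N.relIndex X :=
            orderOf_dvd_natCard _
          obtain ⟨j, -, hj⟩ := (Nat.dvd_prime_pow hu).1 h2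
          rw [hj] at h3 ⊢
          rcases Nat.eq_zero_or_pos j with h4 | h4
          · rw [h4, pow_zero]
          · exact absurd ((dvd_pow_self u h4.ne').trans h3) hidx2
        have h2 : (g : X) ^ c ∈ N.subgroupOf X := (QuotientGroup.eq_one_iff _).1 h1
        exact h2
      have h1 : y * ((g : X) : G) ^ c * y⁻¹ ∈ N := Subgroup.Normal.conj_mem inferInstance _ hcN y
      have h2 : y * ((g : X) : G) ^ c * y⁻¹ ∈ H := by
        rw [← conj_pow]
        exact pow_mem hy c
      have h3 : u ^ a ∣ Nat.card (H.subgroupOf N) := by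
        have h4 : orderOf (⟨⟨_, h1⟩, mem_subgroupOf.2 h2⟩ : H.subgroupOf N) = u ^ a := by
          rw [Subgroup.orderOf_mk, Subgroup.orderOf_mk, ← ho, ← MulAut.conj_apply]
          exact (MulAut.conj y).orderOf_eq _
        rw [← h4]
        exact orderOf_dvd_natCard _
      have h4 : u ^ (a + 1) ∣ Nat.card N := by
        have h5 := Nat.mul_dvd_mul h3 hH
        rwa [Subgroup.card_mul_index, ← pow_succ] at h5
      exact Nat.pow_succ_factorization_not_dvd Nat.card_pos.ne' hu h4
    · intro g g' h
      exact Subtype.ext (Subtype.ext (congrArg (fun z : ders H => (z : G)) h))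
  calc Nat.card G = X.index * Nat.card X := by rw [← hcard, mul_comm]
    _ ≤ m * (2 * w * Nat.card (fullS X u)) := Nat.mul_le_mul hXi hcX
    _ ≤ m * (2 * w * Nat.card (ders H)) := Nat.mul_le_mul_left _ (Nat.mul_le_mul_left _ hinj)
    _ = _ := by ring

/-- `u` is good for the simple group itself -/
theorem good_of_inn {T : Type*} [Group T] [Finite T] [IsSimpleGroup T] {u w : ℕ} {D : Subgroup (MulAut T)}
    (hD : GoodP D u w) (hInn : (MulAut.conj : T →* MulAut T).range ≤ D)
    (hidx : ¬ u ∣ (MulAut.conj : T →* MulAut T).range.relIndex D) : GoodP T u w := by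
  have hu := hD.prime
  have hT : Finite (MulAut T) := inferInstance
  set I := (MulAut.conj : T →* MulAut T).range with hI
  have hcard : Nat.card D = I.relIndex D * Nat.card I := by
    rw [mul_comm, ← Nat.card_congr (Subgroup.subgroupOfEquivOfLe hInn).toEquiv]
    exact (Subgroup.card_mul_index (I.subgroupOf D)).symm
  have huI : u ∣ Nat.card I := by
    have h1 := hD.dvd
    rw [hcard] at h1
    exact (hu.dvd_mul.1 h1).resolve_left hidx
  have hinj : Function.Injective (MulAut.conj : T →* MulAut T) := by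
    rw [← MonoidHom.ker_eq_bot_iff]
    rcases (MonoidHom.normal_ker (MulAut.conj : T →* MulAut T)).eq_bot_or_eq_top with h | h
    · exact h
    · exfalso
      have h1 : I = ⊥ := by
        rw [hI, MonoidHom.range_eq_bot_iff, ← MonoidHom.ker_eq_top_iff]
        exact h
      rw [h1, Subgroup.card_bot] at huI
      exact hu.one_lt.ne' (Nat.dvd_one.1 huI)
  have h1 : Nat.card (I.subgroupOf D) = Nat.card I := Nat.card_congr (Subgroup.subgroupOfEquivOfLe hInn).toEquiv
  exact GoodP.congr ((MonoidHom.ofInjective hinj).trans (Subgroup.subgroupOfEquivOfLe hInn).symm)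
    (GoodP.sub hD _ (by rw [h1]; exact huI))

end count

end Cfsg.Agent.H491.Dp
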