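import Mathlib
import Cfsg.Agent.H491.Dp.Cyc
import Cfsg.Agent.ClassicalGeometry.HermFrame
import Cfsg.Agent.LieClassical.HermCount

/-!
# Cyclic `u`-subgroups of unitary groups (helper491, project S5734, DP9)

`e` the order of `-q` modulo `u`: `e ∣ n - dim C_V(B)` for every `u`-subgroup `B` of `GU_n(q)`, by counting isotropic
vectors; hence the `u`-subgroups are cyclic if `n < 2 e`.
-/

set_option autoImplicit false

namespace Cfsg.Agent.H491.Dp.PSU

open Subgroup Module Matrix Cfsg Cfsg.Agent.H124.LinCyc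
open Cfsg.Agent.LieClassical.HermBasic

theorem zmod_two : ∀ x : ZMod 2, x = 0 ∨ x = 1 := by
  decide

section

variable {F : Type*} [Field F] [Fintype F] {q n : ℕ}

/-- matrices and linear maps -/
def tl (n : ℕ) (F : Type*) [Field F] : GL (Fin n) F ≃* ((Fin n → F) ≃ₗ[F] (Fin n → F)) :=
  Matrix.GeneralLinearGroup.toLin.trans (LinearMap.GeneralLinearGroup.generalLinearEquiv F (Fin n → F))

omit [Fintype F] in
theorem tl_apply (g : GL (Fin n) F) (v : Fin n → F) : tl n F g v = (g : Matrix (Fin n) (Fin n) F) *ᵥ v := rfl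

variable {A : Type*} [Group A] [Finite A] {u : ℕ} [hu : Fact u.Prime]

/-- the space of fixed vectors -/
abbrev fx (σ : A →* GL (Fin n) F) : Submodule F (Fin n → F) := fix ((tl n F).toMonoidHom.comp σ)

omit [Fintype F] [Finite A] in
theorem mem_fx {σ : A →* GL (Fin n) F} {v : Fin n → F} :
    v ∈ fx σ ↔ ∀ a, (σ a : Matrix (Fin n) (Fin n) F) *ᵥ v = v := Iff.rfl

/-- the space of fixed vectors is non-degenerate -/
theorem fx_nondeg (hF : Fintype.card F = q ^ 2) (hA : IsPGroup u A) (huF : (u : F) ≠ 0) {σ : A →* GL (Fin n) F}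
    (hσ : ∀ a, σ a ∈ GU n F q) (v : Fin n → F) (hv : v ∈ fx σ)
    (h : ∀ w ∈ fx σ, hermForm n F q v w = 0) : v = 0 := by
  have := Fintype.ofFinite A
  apply herm_nondeg hF
  intro x
  have h1 : ∑ a : A, (σ a : Matrix (Fin n) (Fin n) F) *ᵥ x ∈ fx σ := by
    rw [mem_fx]
    intro b
    rw [Matrix.mulVec_sum]
    have h2 : ∀ a : A, (σ b : Matrix (Fin n) (Fin n) F) *ᵥ ((σ a : Matrix (Fin n) (Fin n) F) *ᵥ x) =
        (σ (b * a) : Matrix (Fin n) (Fin n) F) *ᵥ x := by
      intro a
      rw [Matrix.mulVec_mulVec, map_mul, Units.val_mul]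
    rw [Finset.sum_congr rfl (fun a _ => h2 a)]
    exact Fintype.sum_equiv (Equiv.mulLeft b) _ _ fun _ => rfl
  have h2 := h _ h1
  rw [herm_sum_right hF] at h2
  have h3 : ∀ a : A, hermForm n F q v ((σ a : Matrix (Fin n) (Fin n) F) *ᵥ x) = hermForm n F q v x := by
    intro a
    conv_lhs => rw [← mem_fx.1 hv a]
    exact (mem_GU_iff _).1 (hσ a) v x
  rw [Finset.sum_congr rfl (fun a _ => h3 a), Finset.sum_const, Finset.card_univ, ← Nat.cast_smul_eq_nsmul F,
    smul_eq_mul] at h2
  refine (mul_eq_zero.1 h2).resolve_left ?_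
  obtain ⟨k, hk⟩ := IsPGroup.iff_card.1 hA
  rw [Nat.card_eq_fintype_card] at hk
  rw [hk, Nat.cast_pow]
  exact pow_ne_zero k huF

/-- the number of isotropic vectors in a non-degenerate subspace -/
theorem card_iso (hF : Fintype.card F = q ^ 2) (U : Submodule F (Fin n → F))
    (hU : ∀ v ∈ U, (∀ w ∈ U, hermForm n F q v w = 0) → v = 0) :
    Nat.card {v : U // hermForm n F q (v : Fin n → F) v = 0} =
      Nat.card {w : Fin (finrank F U) → F // hermForm (finrank F U) F q w w = 0} := by
  set k := finrank F U with hk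
  obtain ⟨g, hgU, hg⟩ := ClassicalGeometry.HermFrame.exists_orthonormal hF k U hk.symm hU
  let L : (Fin k → F) →ₗ[F] U :=
    { toFun := fun w => ⟨∑ i, w i • g i, Submodule.sum_mem _ fun i _ => Submodule.smul_mem _ _ (hgU i)⟩
      map_add' := fun w w' => Subtype.ext (by
        show ∑ i, (w i + w' i) • g i = ∑ i, w i • g i + ∑ i, w' i • g i
        rw [← Finset.sum_add_distrib]
        exact Finset.sum_congr rfl fun i _ => add_smul _ _ _)
      map_smul' := fun c w => Subtype.ext (by
        show ∑ i, (c * w i) • g i = c • ∑ i, w i • g i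
        rw [Finset.smul_sum]
        exact Finset.sum_congr rfl fun i _ => mul_smul _ _ _) }
  have hL : ∀ w, (L w : Fin n → F) = ∑ i, w i • g i := fun w => rfl
  have hform : ∀ w w', hermForm n F q (L w) (L w') = hermForm k F q w w' := by
    intro w w'
    rw [hL, hL, herm_sum_left, herm_def]
    refine Finset.sum_congr rfl fun i _ => ?_
    rw [herm_smul_left, herm_sum_right hF, Finset.sum_eq_single i]
    · rw [herm_smul_right, hg, if_pos rfl, mul_one]
    · intro j _ hji
      rw [herm_smul_right, hg, if_neg (Ne.symm hji), mul_zero]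
    · intro hi
      exact absurd (Finset.mem_univ i) hi
  have hinj : Function.Injective L := by
    rw [← LinearMap.ker_eq_bot, LinearMap.ker_eq_bot']
    intro w hw
    apply herm_nondeg hF (q := q)
    intro w'
    rw [← hform, hw]
    exact herm_zero_left _
  have hbij : Function.Bijective L :=
    ⟨hinj, (LinearMap.injective_iff_surjective_of_finrank_eq_finrank (by
      rw [Module.finrank_fin_fun, hk])).1 hinj⟩
  refine (Nat.card_congr (Equiv.ofBijective
    (fun w : {w : Fin k → F // hermForm k F q w w = 0} =>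
      (⟨L w, by rw [hform]; exact w.2⟩ : {v : U // hermForm n F q (v : Fin n → F) v = 0})) ⟨?_, ?_⟩)).symm
  · intro w w' h
    exact Subtype.ext (hinj (congrArg Subtype.val h))
  · rintro ⟨v, hv⟩
    obtain ⟨w, rfl⟩ := hbij.2 v
    exact ⟨⟨w, by rw [← hform]; exact hv⟩, rfl⟩

/-- the number of isotropic vectors modulo `u` -/
theorem iso_zmod (hF : Fintype.card F = q ^ 2) (k : ℕ) :
    (-(q : ZMod u)) * (Nat.card {w : Fin k → F // hermForm k F q w w = 0} : ZMod u) =
      (-(q : ZMod u)) ^ k * (-(q : ZMod u) + 1) - (-(q : ZMod u)) ^ (2 * k) := by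
  have hq := two_le hF
  rw [LieClassical.HermCount.card_isotropic hF k]
  rcases k with _ | k
  · simp
  · have h1 : 1 ≤ q ^ (k + 1) := Nat.one_le_pow _ _ (by omega)
    have h2 : 1 ≤ q ^ k := Nat.one_le_pow _ _ (by omega)
    rw [Nat.add_sub_cancel]
    rcases Nat.even_or_odd (k + 1) with he | ho
    · have ho : Odd k := by
        rcases Nat.even_or_odd k with h | h
        · exact absurd he (Nat.not_even_iff_odd.2 (Even.add_one h))
        · exact h
      rw [if_pos he]
      push_cast [h1]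
      rw [he.neg_pow, Even.neg_pow ⟨k + 1, by ring⟩ (q : ZMod u)]
      ring
    · have he : Even k := by
        rcases Nat.even_or_odd k with h | h
        · exact h
        · exact absurd (Odd.add_one h) (Nat.not_even_iff_odd.2 ho)
      rw [if_neg (Nat.not_even_iff_odd.2 ho)]
      push_cast [h2]
      rw [ho.neg_pow, Even.neg_pow ⟨k + 1, by ring⟩ (q : ZMod u)]
      ring

/-- **`e ∣ n - dim C_V(A)`** -/
theorem dvd_sub_fx (hF : Fintype.card F = q ^ 2) {e : ℕ} (he : 3 ≤ e) (ho : orderOf (-(q : ZMod u)) = e)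
    (hA : IsPGroup u A) (huF : (u : F) ≠ 0) {σ : A →* GL (Fin n) F} (hσ : ∀ a, σ a ∈ GU n F q) :
    e ∣ n - finrank F (fx σ) := by
  have hq := two_le hF
  set k := finrank F (fx σ) with hk
  have hkn : k ≤ n := by
    have := Submodule.finrank_le (fx σ)
    rwa [Module.finrank_fin_fun] at this
  -- the actions
  let act : MulAction A (Fin n → F) := MulAction.compHom (Fin n → F) ((tl n F).toMonoidHom.comp σ)
  have hact : ∀ (a : A) (v : Fin n → F), a • v = (σ a : Matrix (Fin n) (Fin n) F) *ᵥ v := fun a v => rfl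
  let act2 : MulAction A {v : Fin n → F // hermForm n F q v v = 0} :=
    { smul := fun a v => ⟨a • v.1, by rw [hact, (mem_GU_iff _).1 (hσ a)]; exact v.2⟩
      one_smul := fun v => Subtype.ext (one_smul A v.1)
      mul_smul := fun a b v => Subtype.ext (mul_smul a b v.1) }
  -- all vectors
  have h1 := hA.card_modEq_card_fixedPoints (Fin n → F)
  have h2 : Nat.card (MulAction.fixedPoints A (Fin n → F)) = Nat.card (fx σ) := Nat.card_congr (Equiv.refl _)
  have hc1 : Nat.card (Fin n → F) = q ^ (2 * n) := by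
    rw [Module.natCard_eq_pow_finrank (K := F) (V := Fin n → F), Nat.card_eq_fintype_card, hF, Module.finrank_fin_fun,
      ← pow_mul]
  have hc2 : Nat.card (fx σ) = q ^ (2 * k) := by
    rw [Module.natCard_eq_pow_finrank (K := F) (V := fx σ), Nat.card_eq_fintype_card, hF, ← pow_mul]
  rw [h2, hc1, hc2] at h1
  have h1' := (ZMod.natCast_eq_natCast_iff _ _ u).2 h1
  -- isotropic vectors
  have h3 := hA.card_modEq_card_fixedPoints {v : Fin n → F // hermForm n F q v v = 0}
  have h4 : Nat.card (MulAction.fixedPoints A {v : Fin n → F // hermForm n F q v v = 0}) =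
      Nat.card {v : fx σ // hermForm n F q (v : Fin n → F) v = 0} := by
    refine Nat.card_congr ⟨fun v => ⟨⟨v.1.1, fun a => congrArg Subtype.val (v.2 a)⟩, v.1.2⟩,
      fun v => ⟨⟨v.1.1, v.2⟩, fun a => Subtype.ext (v.1.2 a)⟩, fun v => rfl, fun v => rfl⟩
  rw [h4, card_iso hF (fx σ) (fx_nondeg hF hA huF hσ)] at h3
  have h3' := (ZMod.natCast_eq_natCast_iff _ _ u).2 h3
  have h5 := iso_zmod (u := u) hF n
  have h6 := iso_zmod (u := u) hF k
  rw [h3', h6] at h5
  push_cast at h1'
  set Q : ZMod u := -(q : ZMod u) with hQ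
  have h7 : Q ^ (2 * n) = Q ^ (2 * k) := by
    rw [hQ, Even.neg_pow ⟨n, by ring⟩, Even.neg_pow ⟨k, by ring⟩]
    exact h1'
  have h8 : Q + 1 ≠ 0 := by
    intro h8
    have h9 : Q ^ 2 = 1 := by
      rw [eq_neg_of_add_eq_zero_left h8]
      ring
    have h10 := orderOf_dvd_of_pow_eq_one h9
    rw [ho] at h10
    have := Nat.le_of_dvd two_pos h10
    omega
  have h9 : Q ^ k = Q ^ n := by
    have h10 : (Q ^ k - Q ^ n) * (Q + 1) = 0 := by
      rw [h7] at h5
      linear_combination h5
    exact sub_eq_zero.1 ((mul_eq_zero.1 h10).resolve_right h8)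
  have hQ0 : Q ≠ 0 := by
    intro h10
    have h11 : orderOf Q = 0 := by
      rw [h10, orderOf_eq_zero_iff']
      intro m hm
      rw [zero_pow hm.ne']
      exact zero_ne_one
    omega
  rw [← ho]
  apply orderOf_dvd_of_pow_eq_one
  have h10 : Q ^ k * Q ^ (n - k) = Q ^ k * 1 := by
    rw [← pow_add, Nat.add_sub_cancel' hkn, mul_one, h9]
  exact mul_left_cancel₀ (pow_ne_zero k hQ0) h10

/-- **the `u`-subgroups of `GU_n(q)` are cyclic** -/
theorem isCyclic_of (hF : Fintype.card F = q ^ 2) {e : ℕ} (he : 3 ≤ e) (hne : n < 2 * e)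
    (ho : orderOf (-(q : ZMod u)) = e) (hA : IsPGroup u A) (huF : (u : F) ≠ 0) (σ : A →* GL (Fin n) F)
    (hinj : Function.Injective σ) (hσ : ∀ a, σ a ∈ GU n F q) : IsCyclic A := by
  have hu2 : u ≠ 2 := by
    rintro rfl
    rcases zmod_two (-(q : ZMod 2)) with h | h
    · have h11 : orderOf (-(q : ZMod 2)) = 0 := by
        rw [h, orderOf_eq_zero_iff']
        intro m hm
        rw [zero_pow hm.ne']
        exact zero_ne_one
      omega
    · rw [h, orderOf_one] at ho
      omega
  refine isCyclic_of_div (e := e) hu2 huF (by rw [Module.finrank_fin_fun]; exact hne) hA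
    ((tl n F).toMonoidHom.comp σ) ((tl n F).injective.comp hinj) fun B => ?_
  rw [Module.finrank_fin_fun]
  exact dvd_sub_fx hF he ho (hA.to_subgroup B) huF (σ := σ.comp B.subtype) fun b => hσ b

end

end Cfsg.Agent.H491.Dp.PSU
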