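import Mathlib
import Cfsg.Agent.H491.Dp.Abs
import Cfsg.Agent.H124.LinCyc
import Cfsg.Agent.S0813
import Cfsg.Agent.S0249

/-!
# Good primes of `PSL_n(q)` and the almost simple groups with socle `PSL_n(q)` (helper491, project S5734, DP9)

* `PSL.goodD` : `GoodP D u n`, `D ≤ Aut (PSL_n(F))` the image of `GL_n(F)`, `LevP (.psl n q) u`;
* `PSL.good` : `GoodP (PSL_n(F)) u n`;
* `PSL.big` : `|G| ≤ 2 f (2 n) #ders H`, `G` almost simple with socle `PSL_n(F)`, `u ∣ |N : H ∩ N|`.
-/

set_option autoImplicit false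

namespace Cfsg.Agent.H491.Dp

open Subgroup Cfsg Cfsg.Agent.H192.Dp Cfsg.Agent.H436 Matrix
open Cfsg.Agent.ClassicalGeometry.AutPSL.Root
open Cfsg.Agent.ClassicalGeometry.AutPSL.Auto
open Cfsg.Agent.ClassicalGeometry.AutPSL.Main

/-! ### Arithmetic -/

theorem dvd_iff_of_order {q u e : ℕ} (hq : 0 < q) (h : orderOf (q : ZMod u) = e) (j : ℕ) :
    u ∣ q ^ j - 1 ↔ e ∣ j := by
  rw [← h, orderOf_dvd_iff_pow_eq_one, ← Nat.cast_pow]
  have h1 : 1 ≤ q ^ j := Nat.one_le_pow _ _ hq
  constructor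
  · rintro h2
    have h3 : ((q ^ j - 1 : ℕ) : ZMod u) = 0 := (ZMod.natCast_eq_zero_iff _ _).2 h2
    rw [Nat.cast_sub h1, Nat.cast_one] at h3
    exact sub_eq_zero.1 h3
  · intro h2
    rw [← ZMod.natCast_eq_zero_iff, Nat.cast_sub h1, h2, Nat.cast_one, sub_self]

namespace PSL

section

variable {F : Type*} [Field F] [Fintype F] {n : ℕ}

/-- the action of `GL_n(F)` on `PSL_n(F)` -/
def hom (n : ℕ) (F : Type*) [Field F] : GL (Fin n) F →* MulAut (Matrix.ProjectiveSpecialLinearGroup (Fin n) F) :=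
  lift.comp cj

omit [Fintype F] in
theorem scalar_of_ker (hn : 2 ≤ n) {A : GL (Fin n) F} (hA : A ∈ (hom n F).ker) :
    ∃ r : Fˣ, Matrix.GeneralLinearGroup.scalar (Fin n) r = A := by
  have : Nontrivial (Fin n) := Fin.nontrivial_iff_two_le.2 hn
  have h1 : lift (cj A) = 1 := hA
  obtain ⟨⟨r, hr⟩, -⟩ := injective_aux (C := A) (σ := 1) (τ := 1) (by rw [map_one, mul_one, h1, map_one])
  obtain ⟨i⟩ : Nonempty (Fin n) := inferInstance
  have hr0 : r ≠ 0 := by
    rintro rfl
    have h2 : (A : Matrix (Fin n) (Fin n) F) * ((A⁻¹ : GL (Fin n) F) : Matrix (Fin n) (Fin n) F) = 1 := by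
      rw [← Units.val_mul, mul_inv_cancel, Units.val_one]
    rw [← hr, map_zero, zero_mul] at h2
    have := congrFun (congrFun h2 i) i
    rw [one_apply_eq] at this
    exact zero_ne_one this
  exact ⟨Units.mk0 r hr0, Units.ext hr⟩

omit [Fintype F] in
theorem ker_le (hn : 2 ≤ n) : (hom n F).ker ≤ center (GL (Fin n) F) := by
  intro A hA
  obtain ⟨r, rfl⟩ := scalar_of_ker hn hA
  rw [mem_center_iff]
  intro g
  apply Units.ext
  change g.1 * scalar (Fin n) (r : F) = scalar (Fin n) (r : F) * g.1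
  exact (scalar_commute (n := Fin n) (r : F) (Commute.all (r : F)) g.1).symm

theorem card_ker (hn : 2 ≤ n) : Nat.card (hom n F).ker ∣ Fintype.card F - 1 := by
  have h1 : (hom n F).ker ≤ (Matrix.GeneralLinearGroup.scalar (Fin n) : Fˣ →* GL (Fin n) F).range := by
    intro A hA
    obtain ⟨r, hr⟩ := scalar_of_ker hn hA
    exact ⟨r, hr⟩
  refine (card_dvd_of_le h1).trans ((Subgroup.card_range_dvd _).trans ?_)
  rw [Nat.card_units, Nat.card_eq_fintype_card]

theorem goodD (hn : 3 ≤ n) {u : ℕ} (hu : u.Prime) (h : LevP (.psl n (Fintype.card F)) u) :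
    GoodP (hom n F).range u n := by
  have := Fact.mk hu
  obtain ⟨e, he2, hne, hen, ho⟩ := h
  have hq : 0 < Fintype.card F := Fintype.card_pos
  have hiff := dvd_iff_of_order hq ho
  have hu1 : ¬ u ∣ Fintype.card F - 1 := by
    intro h1
    have h2 := (hiff 1).1 (by rwa [pow_one])
    have := Nat.le_of_dvd one_pos h2
    omega
  have hu2 : u ≠ 2 := by
    rintro rfl
    have h1 : ¬ 2 ∣ Fintype.card F := Cfsg.Agent.H124.LinCyc.not_dvd_card (by omega) hiff
    apply hu1
    omega
  have huF : ¬ u ∣ Fintype.card F := Cfsg.Agent.H124.LinCyc.not_dvd_card (by omega) hiff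
  have huF' : (u : F) ≠ 0 := by
    intro h1
    apply huF
    obtain ⟨c, hc⟩ := CharP.exists F
    rw [CharP.cast_eq_zero_iff F c] at h1
    have hc1 : c ≠ 1 := CharP.char_ne_one F c
    have h2 : u = c := ((hu.eq_one_or_self_of_dvd c h1).resolve_left hc1).symm
    subst h2
    rw [← CharP.cast_eq_zero_iff F u]
    exact FiniteField.cast_card_eq_zero F
  refine good_range hu (hom n F) (ker_le (by omega)) (fun h1 => hu1 (h1.trans (card_ker (by omega)))) ?_ ?_ huF'
    (MonoidHom.id _) Function.injective_id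
  · rw [Matrix.card_GL_field]
    have h1 : u ∣ Fintype.card F ^ n - Fintype.card F ^ (n - e) := by
      have h2 : Fintype.card F ^ n - Fintype.card F ^ (n - e) = Fintype.card F ^ (n - e) * (Fintype.card F ^ e - 1) := by
        rw [Nat.mul_sub_one, ← pow_add, Nat.sub_add_cancel hen]
      rw [h2]
      exact dvd_mul_of_dvd_right ((hiff e).2 dvd_rfl) _
    exact h1.trans (Finset.dvd_prod_of_mem (fun i : Fin n => Fintype.card F ^ n - Fintype.card F ^ (i : ℕ))
      (Finset.mem_univ (⟨n - e, by omega⟩ : Fin n)))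
  · intro Q hQ
    exact Cfsg.Agent.H124.LinCyc.isCyclic_of_gl (e := e) hu2 (by omega) hiff (by rw [Fintype.card_fin]; exact hne) hQ
      Q.subtype Q.subtype_injective

omit [Fintype F] in
/-- the inner automorphisms -/
theorem range_conj : (MulAut.conj : Matrix.ProjectiveSpecialLinearGroup (Fin n) F →* _).range =
    (Matrix.SpecialLinearGroup.toGL : Matrix.SpecialLinearGroup (Fin n) F →* GL (Fin n) F).range.map (hom n F) := by
  have key : ∀ x : Matrix.SpecialLinearGroup (Fin n) F, MulAut.conj (pr x) = hom n F (Matrix.SpecialLinearGroup.toGL x) := by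
    intro x
    apply MulEquiv.ext
    intro t
    obtain ⟨t, rfl⟩ := pr_surjective t
    rw [MulAut.conj_apply, ← map_inv, ← map_mul, ← map_mul]
    change _ = pr (cj (Matrix.SpecialLinearGroup.toGL x) t)
    congr 1
  ext α
  constructor
  · rintro ⟨t, rfl⟩
    obtain ⟨t, rfl⟩ := pr_surjective t
    exact ⟨_, ⟨t, rfl⟩, (key t).symm⟩
  · rintro ⟨_, ⟨t, rfl⟩, rfl⟩
    exact ⟨pr t, key t⟩

omit [Fintype F] in
theorem inn_le : (MulAut.conj : Matrix.ProjectiveSpecialLinearGroup (Fin n) F →* _).range ≤ (hom n F).range := by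
  rw [range_conj]
  rintro _ ⟨A, -, rfl⟩
  exact ⟨A, rfl⟩

theorem relIndex_dvd : (MulAut.conj : Matrix.ProjectiveSpecialLinearGroup (Fin n) F →* _).range.relIndex
    (hom n F).range ∣ Fintype.card F - 1 := by
  rw [range_conj, MonoidHom.range_eq_map (hom n F), Subgroup.relIndex_map_map, top_sup_eq,
    Subgroup.relIndex_top_right]
  refine (Subgroup.index_dvd_of_le le_sup_left).trans ?_
  have h1 : (Matrix.SpecialLinearGroup.toGL : Matrix.SpecialLinearGroup (Fin n) F →* GL (Fin n) F).range =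
      (Matrix.GeneralLinearGroup.det : GL (Fin n) F →* Fˣ).ker := by
    ext A
    rw [MonoidHom.mem_ker]
    constructor
    · rintro ⟨x, rfl⟩
      exact Units.ext x.2
    · intro h
      exact ⟨⟨A, congrArg Units.val h⟩, Units.ext rfl⟩
  rw [h1, Subgroup.index_ker]
  refine (Subgroup.card_subgroup_dvd_card _).trans ?_
  rw [Nat.card_units, Nat.card_eq_fintype_card]

theorem index_le (hn : 3 ≤ n) {p f : ℕ} [Fact p.Prime] (hf : 1 ≤ f) (hF : Fintype.card F = p ^ f) :
    (hom n F).range.index ≤ 2 * f := by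
  have : CharP F p := charP_of_card_eq_prime_pow hF
  have hcard : Nat.card (F ≃+* F) = f := Lib.FieldAutCard.card_ringAut hf hF
  have hfin : Finite (F ≃+* F) := Nat.finite_of_card_ne_zero (by omega)
  have h2 : Nat.card (Bool × (F ≃+* F)) = 2 * f := by rw [Nat.card_prod, hcard]; simp
  rw [← h2]
  unfold Subgroup.index
  refine Nat.card_le_card_of_surjective (fun x : Bool × (F ≃+* F) =>
    (QuotientGroup.mk ((lift (fld x.2 * (if x.1 then itr else 1)))⁻¹) :
      MulAut (Matrix.ProjectiveSpecialLinearGroup (Fin n) F) ⧸ (hom n F).range)) ?_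
  intro y
  obtain ⟨β, rfl⟩ := QuotientGroup.mk_surjective y
  rcases surj_three p hn β⁻¹ with ⟨A, σ, h⟩ | ⟨A, σ, h⟩
  · refine ⟨(false, σ), ?_⟩
    rw [QuotientGroup.eq]
    simp only [Bool.false_eq_true, if_false, mul_one, inv_inv]
    have h3 : lift (fld σ) * β = (lift (cj A))⁻¹ := by
      rw [map_mul] at h
      rw [← inv_inv β, h]
      group
    rw [h3]
    exact inv_mem ⟨A, rfl⟩
  · refine ⟨(true, σ), ?_⟩
    rw [QuotientGroup.eq]
    simp only [if_true, inv_inv]
    have h3 : lift (fld σ * itr) * β = (lift (cj A))⁻¹ := by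
      rw [mul_assoc, map_mul] at h
      rw [← inv_inv β, h]
      group
    rw [h3]
    exact inv_mem ⟨A, rfl⟩

theorem not_dvd {u : ℕ} (h : LevP (.psl n (Fintype.card F)) u) : ¬ u ∣ Fintype.card F - 1 := by
  obtain ⟨e, he2, hne, hen, ho⟩ := h
  intro h1
  have h2 := (dvd_iff_of_order Fintype.card_pos ho 1).1 (by rwa [pow_one])
  have := Nat.le_of_dvd one_pos h2
  omega

/-- **`PSL_n(q)`** -/
theorem good (hn : 3 ≤ n) {u : ℕ} (hu : u.Prime) (h : LevP (.psl n (Fintype.card F)) u) :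
    GoodP (Matrix.ProjectiveSpecialLinearGroup (Fin n) F) u n := by
  have : IsSimpleGroup (Matrix.ProjectiveSpecialLinearGroup (Fin n) F) := S0249.result n hn
  exact good_of_inn (goodD hn hu h) inn_le fun h1 => not_dvd h (h1.trans relIndex_dvd)

/-- **Almost simple groups with socle `PSL_n(q)`** -/
theorem big (hn : 3 ≤ n) {p f : ℕ} [Fact p.Prime] (hf : 1 ≤ f) (hF : Fintype.card F = p ^ f) {u : ℕ} (hu : u.Prime)
    (h : LevP (.psl n (Fintype.card F)) u) {G : Type*} [Group G] [Finite G] (N : Subgroup G) [N.Normal]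
    (e : N ≃* Matrix.ProjectiveSpecialLinearGroup (Fin n) F) (hC : centralizer (N : Set G) = ⊥) {H : Subgroup G}
    (hH : u ∣ (H.subgroupOf N).index) : Nat.card G ≤ 2 * f * (2 * n) * Nat.card (ders H) :=
  Dp.big (goodD hn hu h) inn_le (fun h1 => not_dvd h (h1.trans relIndex_dvd)) (index_le hn hf hF) N e hC hH

end

end PSL

end Cfsg.Agent.H491.Dp
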