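import Mathlib
import Cfsg.Agent.H491.Dp.Abs
import Cfsg.Agent.H491.Dp.PsuCyc
import Cfsg.Agent.ClassicalGeometry.PSUAutMain
import Cfsg.Agent.ClassicalGeometry.PSUAutCount
import Cfsg.Agent.S0277
import Cfsg.Agent.S0283

/-!
# Good primes of `PSU_n(q)` and the almost simple groups with socle `PSU_n(q)` (helper491, project S5734, DP9)

* `PSU.goodD` : `GoodP D u n`, `D ≤ Aut (PSU_n(q))` the image of `GU_n(q)`, `LevP (.psu n q) u`;
* `PSU.good` : `GoodP (PSU_n(q)) u n`;
* `PSU.big` : `|G| ≤ 2 f (2 n) #ders H`, `G` almost simple with socle `PSU_n(q)`, `u ∣ |N : H ∩ N|`.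
-/

set_option autoImplicit false

namespace Cfsg.Agent.H491.Dp.PSU

open Subgroup Cfsg Cfsg.Agent.H192.Dp Cfsg.Agent.H436 Matrix
open Cfsg.Agent.LieClassical.HermSiegel
open Cfsg.Agent.ClassicalGeometry.UnitAutBasic Cfsg.Agent.ClassicalGeometry.PSUAutCount
open Cfsg.Agent.LieClassical.GUOrder (finite_GU detGU kerEquiv range_detGU card_ker_pow)

section

variable {F : Type*} [Field F] {n q : ℕ}

theorem act_refl (A : GU n F q) (g : SU n F q) (x : Fin n → F) :
    LieClassical.HermSiegel.act (semiConj A (RingEquiv.refl F) g) x = gm A *ᵥ LieClassical.HermSiegel.act g (gm A⁻¹ *ᵥ x) := by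
  have h := act_semiConj A (RingEquiv.refl F) g (gm A⁻¹ *ᵥ x)
  have h1 : (gm A *ᵥ fun i => (RingEquiv.refl F) ((gm A⁻¹ *ᵥ x) i)) = x := gm_mulVec_inv A x
  rw [h1] at h
  exact h

/-- the action of `GU_n(q)` on `PSU_n(q)` -/
def hom (n : ℕ) (F : Type*) [Field F] (q : ℕ) : GU n F q →* MulAut (PSU n F q) :=
  MonoidHom.mk' (fun A => toAut A (RingEquiv.refl F)) fun A B => by
    ext x
    obtain ⟨g, rfl⟩ := pr_surjective x
    rw [MulAut.mul_apply, toAut_pr, toAut_pr, toAut_pr]
    congr 1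
    apply ext_act
    intro x
    rw [act_refl, act_refl, act_refl, gm_mul, _root_.mul_inv_rev, gm_mul, ← mulVec_mulVec, ← mulVec_mulVec]

theorem hom_apply (A : GU n F q) : hom n F q A = toAut A (RingEquiv.refl F) := rfl

theorem toAut_eq (A : GU n F q) (ρ : F ≃+* F) : toAut A ρ = hom n F q A * toAut 1 ρ := by
  ext x
  obtain ⟨g, rfl⟩ := pr_surjective x
  rw [MulAut.mul_apply, hom_apply, toAut_pr, toAut_pr, toAut_pr]
  congr 1
  apply ext_act
  intro x
  have hx : x = gm A *ᵥ fun i => ρ ((fun j => ρ.symm ((gm A⁻¹ *ᵥ x) j)) i) := by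
    have : (fun i => ρ ((fun j => ρ.symm ((gm A⁻¹ *ᵥ x) j)) i)) = gm A⁻¹ *ᵥ x := by
      funext i
      simp
    rw [this, gm_mulVec_inv]
  rw [hx]
  generalize (fun j => ρ.symm ((gm A⁻¹ *ᵥ x) j)) = y
  rw [act_semiConj, act_refl, gm_inv_mulVec]
  have h := act_semiConj (1 : GU n F q) ρ g y
  rw [gm_one, one_mulVec, one_mulVec] at h
  rw [h]

variable [Fintype F]

theorem gm_of_ker (hF : Fintype.card F = q ^ 2) (hn : 3 ≤ n) {A : GU n F q} (hA : A ∈ (hom n F q).ker) :
    ∃ c : F, c * c ^ q = 1 ∧ gm A = c • (1 : Matrix (Fin n) (Fin n) F) := by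
  have h1 : toAut (1 : GU n F q) (RingEquiv.refl F) = toAut A (RingEquiv.refl F) := by
    rw [← hom_apply, ← hom_apply, MonoidHom.mem_ker.1 hA, map_one]
  obtain ⟨-, c, hc, h⟩ := eq_of_toAut_eq hF hn h1
  exact ⟨c, hc, by rw [h, gm_one]⟩

theorem ker_le (hF : Fintype.card F = q ^ 2) (hn : 3 ≤ n) : (hom n F q).ker ≤ center (GU n F q) := by
  intro A hA
  obtain ⟨c, -, h⟩ := gm_of_ker hF hn hA
  rw [mem_center_iff]
  intro g
  apply gm_inj
  rw [gm_mul, gm_mul, h, Matrix.mul_smul, Matrix.smul_mul, Matrix.mul_one, Matrix.one_mul]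

theorem card_ker (hF : Fintype.card F = q ^ 2) (hn : 3 ≤ n) : Nat.card (hom n F q).ker ∣ q + 1 := by
  have h1 : (hom n F q).ker.map (GU n F q).subtype ≤
      ((powMonoidHom (q + 1) : Fˣ →* Fˣ).ker).map
        (Matrix.GeneralLinearGroup.scalar (Fin n) : Fˣ →* GL (Fin n) F) := by
    rintro _ ⟨A, hA, rfl⟩
    obtain ⟨c, hc, h⟩ := gm_of_ker hF hn hA
    have hc0 : c ≠ 0 := by
      rintro rfl
      rw [zero_mul] at hc
      exact zero_ne_one hc
    refine ⟨Units.mk0 c hc0, ?_, ?_⟩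
    · show (Units.mk0 c hc0) ^ (q + 1) = 1
      apply Units.ext
      rw [Units.val_pow_eq_pow_val, Units.val_mk0, pow_succ', hc, Units.val_one]
    · apply Units.ext
      show scalar (Fin n) c = gm A
      rw [h]
      exact (smul_one_eq_diagonal c).symm
  have h2 := card_dvd_of_le h1
  rw [Subgroup.card_map_of_injective (GU n F q).subtype_injective] at h2
  refine h2.trans (Dvd.dvd.trans ?_ (card_ker_pow hF).dvd)
  exact Subgroup.card_dvd_of_surjective
    ((Matrix.GeneralLinearGroup.scalar (Fin n) : Fˣ →* GL (Fin n) F).subgroupMap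
      (powMonoidHom (q + 1) : Fˣ →* Fˣ).ker)
    (MonoidHom.subgroupMap_surjective _ _)

omit [Fintype F] in
theorem not_dvd {u : ℕ} (h : LevP (.psu n q) u) : ¬ u ∣ q + 1 := by
  obtain ⟨e, he2, hne, hen, ho⟩ := h
  intro h1
  have h2 : ((q + 1 : ℕ) : ZMod u) = 0 := (ZMod.natCast_eq_zero_iff _ _).2 h1
  push_cast at h2
  have h3 : (-(q : ZMod u)) = 1 := by
    linear_combination -h2
  rw [h3, orderOf_one] at ho
  omega

theorem goodD (hF : Fintype.card F = q ^ 2) (hn : 3 ≤ n) {u : ℕ} (hu : u.Prime) (h : LevP (.psu n q) u) :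
    GoodP (hom n F q).range u n := by
  have := Fact.mk hu
  have hu1 := not_dvd h
  obtain ⟨e, he2, hne, hen, ho⟩ := h
  have hfin : Finite (GU n F q) := finite_GU n
  have hfinP : Finite (PSU n F q) := Finite.of_surjective _ (pr_surjective (n := n) (F := F) (q := q))
  have hfinM : Finite (MulAut (PSU n F q)) := inferInstance
  have hq0 : (-(q : ZMod u)) ≠ 0 := by
    intro h10
    have h11 : orderOf (-(q : ZMod u)) = 0 := by
      rw [h10, orderOf_eq_zero_iff']
      intro m hm
      rw [zero_pow hm.ne']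
      exact zero_ne_one
    omega
  have huF' : (u : F) ≠ 0 := by
    intro h1
    apply hq0
    obtain ⟨c, hc⟩ := CharP.exists F
    rw [CharP.cast_eq_zero_iff F c] at h1
    have hc1 : c ≠ 1 := CharP.char_ne_one F c
    have h2 : u = c := ((hu.eq_one_or_self_of_dvd c h1).resolve_left hc1).symm
    subst h2
    have h3 : u ∣ q ^ 2 := by
      rw [← hF, ← CharP.cast_eq_zero_iff F u]
      exact FiniteField.cast_card_eq_zero F
    rw [(ZMod.natCast_eq_zero_iff _ _).2 (hu.dvd_of_dvd_pow h3), neg_zero]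
  refine good_range hu (hom n F q) (ker_le hF hn) (fun h1 => hu1 (h1.trans (card_ker hF hn))) ?_ ?_ huF'
    (GU n F q).subtype (GU n F q).subtype_injective
  · rw [S0277.result hF n]
    have h1 : u ∣ (if Even (e - 1) then q ^ (e - 1 + 1) + 1 else q ^ (e - 1 + 1) - 1) := by
      have h2 : e - 1 + 1 = e := by omega
      have h3 : (-(q : ZMod u)) ^ e = 1 := by rw [← ho, pow_orderOf_eq_one]
      rw [h2]
      rcases Nat.even_or_odd (e - 1) with h4 | h4
      · have h5 : Odd e := by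
          rw [← h2]
          exact Even.add_one h4
        rw [if_pos h4, ← ZMod.natCast_eq_zero_iff]
        rw [h5.neg_pow] at h3
        push_cast
        linear_combination -h3
      · have h5 : Even e := by
          rw [← h2]
          exact Odd.add_one h4
        rw [if_neg (Nat.not_even_iff_odd.2 h4)]
        rw [h5.neg_pow] at h3
        have h6 : 1 ≤ q ^ e := Nat.one_le_pow _ _ (by have := LieClassical.HermBasic.two_le hF; omega)
        rw [← ZMod.natCast_eq_zero_iff, Nat.cast_sub h6, Nat.cast_pow, h3, Nat.cast_one, sub_self]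
    exact dvd_mul_of_dvd_right (h1.trans (Finset.dvd_prod_of_mem
      (fun i : ℕ => if Even i then q ^ (i + 1) + 1 else q ^ (i + 1) - 1)
      (Finset.mem_range.2 (by omega : e - 1 < n)))) _
  · intro Q hQ
    exact isCyclic_of hF he2 hne ho hQ huF' ((GU n F q).subtype.comp Q.subtype)
      ((GU n F q).subtype_injective.comp Q.subtype_injective) fun a => (a : GU n F q).2

omit [Fintype F] in
/-- the inner automorphisms -/
theorem range_conj : (MulAut.conj : PSU n F q →* _).range = (detGU n F q).ker.map (hom n F q) := by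
  have key : ∀ (x : SU n F q) (A : GU n F q), gm A = mat x → MulAut.conj (pr n F q x) = hom n F q A := by
    intro x A hA
    apply MulEquiv.ext
    intro t
    obtain ⟨t, rfl⟩ := pr_surjective t
    rw [MulAut.conj_apply, ← map_inv, ← map_mul, ← map_mul, hom_apply, toAut_pr]
    congr 1
    apply ext_act
    intro y
    rw [act_refl, act_mul, act_mul]
    have h1 : gm A⁻¹ *ᵥ y = LieClassical.HermSiegel.act x⁻¹ y := by
      have h2 : LieClassical.HermSiegel.act x (LieClassical.HermSiegel.act x⁻¹ y) = y := by rw [← act_mul, mul_inv_cancel, act_one]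
      have h3 : gm A *ᵥ LieClassical.HermSiegel.act x⁻¹ y = y := by rw [hA]; exact h2
      conv_lhs => rw [← h3]
      rw [gm_inv_mulVec]
    rw [h1, hA]
    rfl
  ext α
  constructor
  · rintro ⟨t, rfl⟩
    obtain ⟨t, rfl⟩ := pr_surjective t
    exact ⟨((kerEquiv n).symm t : (detGU n F q).ker), ((kerEquiv n).symm t).2, (key t _ rfl).symm⟩
  · rintro ⟨A, hA, rfl⟩
    exact ⟨pr n F q (kerEquiv n ⟨A, hA⟩), key _ _ rfl⟩

omit [Fintype F] in
theorem inn_le : (MulAut.conj : PSU n F q →* _).range ≤ (hom n F q).range := by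
  rw [range_conj]
  rintro _ ⟨A, -, rfl⟩
  exact ⟨A, rfl⟩

theorem relIndex_dvd (hF : Fintype.card F = q ^ 2) (hn : 1 ≤ n) :
    (MulAut.conj : PSU n F q →* _).range.relIndex (hom n F q).range ∣ q + 1 := by
  rw [range_conj, MonoidHom.range_eq_map (hom n F q), Subgroup.relIndex_map_map, top_sup_eq,
    Subgroup.relIndex_top_right]
  refine (Subgroup.index_dvd_of_le le_sup_left).trans ?_
  rw [Subgroup.index_ker, range_detGU hF hn, card_ker_pow hF]

theorem index_le (hF : Fintype.card F = q ^ 2) (hn : 3 ≤ n) (h32 : ¬ (n = 3 ∧ q = 2)) {p f : ℕ} [Fact p.Prime]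
    (hf : 1 ≤ f) (hq : q = p ^ f) : (hom n F q).range.index ≤ 2 * f := by
  have hcard : Nat.card (F ≃+* F) = 2 * f :=
    Lib.FieldAutCard.card_ringAut (p := p) (by omega) (by rw [hF, hq, ← pow_mul, mul_comm])
  have hfin : Finite (F ≃+* F) := Nat.finite_of_card_ne_zero (by omega)
  rw [← hcard]
  unfold Subgroup.index
  refine Nat.card_le_card_of_surjective (fun ρ : F ≃+* F =>
    (QuotientGroup.mk ((toAut (1 : GU n F q) ρ)⁻¹) : MulAut (PSU n F q) ⧸ (hom n F q).range)) ?_
  intro y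
  obtain ⟨β, rfl⟩ := QuotientGroup.mk_surjective y
  obtain ⟨A, ρ, h⟩ := ClassicalGeometry.PSUAutMain.exists_toAut hF hn h32 β⁻¹
  refine ⟨ρ, ?_⟩
  rw [toAut_eq] at h
  show QuotientGroup.mk _ = QuotientGroup.mk _
  rw [QuotientGroup.eq, inv_inv]
  have h3 : toAut (1 : GU n F q) ρ * β = (hom n F q A)⁻¹ := by
    rw [← inv_inv β, h]
    group
  rw [h3]
  exact inv_mem ⟨A, rfl⟩

/-- **`PSU_n(q)`** -/
theorem good (hF : Fintype.card F = q ^ 2) (hn : 3 ≤ n) (h32 : ¬ (n = 3 ∧ q = 2)) {u : ℕ} (hu : u.Prime)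
    (h : LevP (.psu n q) u) : GoodP (PSU n F q) u n := by
  have : IsSimpleGroup (PSU n F q) := S0283.result hF n hn h32
  have hfin : Finite (GU n F q) := finite_GU n
  have hfinP : Finite (PSU n F q) := Finite.of_surjective _ (pr_surjective (n := n) (F := F) (q := q))
  exact good_of_inn (goodD hF hn hu h) inn_le fun h1 => not_dvd h (h1.trans (relIndex_dvd hF (by omega)))

/-- **Almost simple groups with socle `PSU_n(q)`** -/
theorem big (hF : Fintype.card F = q ^ 2) (hn : 3 ≤ n) (h32 : ¬ (n = 3 ∧ q = 2)) {p f : ℕ} [Fact p.Prime]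
    (hf : 1 ≤ f) (hq : q = p ^ f) {u : ℕ} (hu : u.Prime) (h : LevP (.psu n q) u) {G : Type*} [Group G] [Finite G]
    (N : Subgroup G) [N.Normal] (e : N ≃* PSU n F q) (hC : centralizer (N : Set G) = ⊥) {H : Subgroup G}
    (hH : u ∣ (H.subgroupOf N).index) : Nat.card G ≤ 2 * f * (2 * n) * Nat.card (ders H) := by
  have hfin : Finite (GU n F q) := finite_GU n
  have hfinP : Finite (PSU n F q) := Finite.of_surjective _ (pr_surjective (n := n) (F := F) (q := q))
  exact Dp.big (goodD hF hn hu h) inn_le (fun h1 => not_dvd h (h1.trans (relIndex_dvd hF (by omega))))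
    (index_le hF hn h32 hf hq) N e hC hH

end

end Cfsg.Agent.H491.Dp.PSU
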