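import Mathlib
import Cfsg.Agent.H491.Dp.Psl
import Cfsg.Agent.H491.Dp.Psu
import Cfsg.Agent.H545.Dr.Big
import Cfsg.Agent.H934.IdxCl
import Cfsg.Agent.H934.IdxPSU

/-!
# A missing prime power in `PSL_n(q)` and `PSU_n(q)` (helper491, project S5734)

* `good_psl`, `good_psu` : `BigPow` gives `GoodD 144`.
-/

set_option autoImplicit false

namespace Cfsg.Agent.H491.Dp

open Subgroup Cfsg Cfsg.Agent.H545.Dr Cfsg.Agent.H851.Dg Cfsg.Agent.H192.Dp Matrix

/-- the general step with a group `D` of automorphisms -/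
theorem goodD_of {T : Type*} [Group T] [Finite T] {C : ℝ} {M : Subgroup T} {D : Subgroup (MulAut T)} {u j N d : ℕ}
    (hu : u.Prime) (hcyc : CycP u T) (hInn : (MulAut.conj (G := T)).range ≤ D)
    (hidx : ¬ u ∣ (MulAut.conj (G := T)).range.relIndex D) (hDi : D.index ≤ d) (hj : 1 ≤ j)
    (hT : u ^ j ∣ Nat.card T) (hM : ¬ u ^ j ∣ Nat.card M)
    (hfus : ∀ x : T, orderOf x = u ^ (j - 1 + 1) → fusD D x ≤ N)
    (hC : (d : ℝ) * (N : ℝ) ≤ C * Real.log (M.index : ℝ)) : GoodD C T M := by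
  have := Fact.mk hu
  obtain ⟨P, hP⟩ := Sylow.exists_subgroup_card_pow_prime u hT
  have hPu : IsPGroup u P := IsPGroup.of_card hP
  have := hcyc P hPu
  obtain ⟨x, hx⟩ := IsCyclic.exists_ofOrder_eq_natCard (α := P)
  rw [hP] at hx
  have hx' : orderOf (x : T) = u ^ j := by rw [Subgroup.orderOf_coe, hx]
  have hj' : j - 1 + 1 = j := by omega
  refine ⟨D, u, j, (x : T), hInn, hu, by omega, hx', fun Q _ _ hQ => hcyc Q hQ, hidx, ?_, ?_⟩
  · intro α hα
    apply hM
    have h1 : orderOf (α (x : T)) = u ^ j := by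
      rw [← hx']
      exact orderOf_injective α.toMonoidHom α.injective (x : T)
    rw [← h1, ← Subgroup.orderOf_mk (α (x : T)) hα]
    exact orderOf_dvd_natCard _
  · refine le_trans ?_ hC
    have h2 := hfus (x : T) (by rw [hj', hx'])
    have h3 : D.index * fusD D (x : T) ≤ d * N := Nat.mul_le_mul hDi h2
    exact_mod_cast h3

section psl

open Cfsg.Agent.ClassicalGeometry.AutPSL.Root Cfsg.Agent.ClassicalGeometry.AutPSL.Auto

variable {F : Type} [Field F] [Fintype F] {n : ℕ}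

theorem fus_psl {u b : ℕ} (hu : u.Prime) (he : 2 ≤ orderOf ((Fintype.card F : ℕ) : ZMod u))
    {x : Matrix.ProjectiveSpecialLinearGroup (Fin n) F} (hx : orderOf x = u ^ (b + 1)) :
    fusD (PSL.hom n F).range x ≤ n := by
  have h1 := fusD_le (ι := Fin n) (K := F)
    (Matrix.SpecialLinearGroup.toGL : Matrix.SpecialLinearGroup (Fin n) F →* GL (Fin n) F)
    (fun a b hab => Subtype.ext (congrArg Units.val hab))
    (pr : Matrix.SpecialLinearGroup (Fin n) F →* _) pr_surjective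
    (fun k hk => by
      obtain ⟨c, hc⟩ := exists_smul_of_pr_eq (x := 1) (y := k) (by rw [hk, map_one])
      exact ⟨c, hc⟩)
    hu (cast_ne_zero_of_order hu he) (scal_of_order hu he) (PSL.hom n F).range (by
      rintro _ ⟨P, rfl⟩
      refine ⟨P, fun g h hgh => ?_⟩
      have h2 : pr h = pr (cj P g) := hgh
      obtain ⟨c, hc⟩ := exists_smul_of_pr_eq h2.symm
      exact ⟨c, hc⟩) hx
  rwa [Fintype.card_fin] at h1

/-- **`PSL_n(q)`** -/
theorem good_psl (hn : 3 ≤ n) {M : Subgroup (Matrix.ProjectiveSpecialLinearGroup (Fin n) F)} (hM : M ≠ ⊤)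
    (h : BigPow (.psl n (Fintype.card F)) M) : GoodD 144 (Matrix.ProjectiveSpecialLinearGroup (Fin n) F) M := by
  obtain ⟨u, j, ⟨hu, hlt, hle⟩, hj, hT, hR⟩ := h
  have he : 2 ≤ orderOf ((Fintype.card F : ℕ) : ZMod u) := by omega
  have hL : LevP (.psl n (Fintype.card F)) u := ⟨_, he, hlt, hle, rfl⟩
  obtain ⟨p, f, hp, hf, hF⟩ := H934.OutCl.exists_pf F
  have := Fact.mk hp
  have hs : IsSimpleGroup (Matrix.ProjectiveSpecialLinearGroup (Fin n) F) := S0249.result n hn
  have hidx := H934.IdxCl.psl (ι := Fin n) (F := F) (by rw [Fintype.card_fin]; exact hn) hs M hM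
  rw [Fintype.card_fin, hF] at hidx
  have hest := estimate (o := 2 * f) (N := n) (k := 72) hp.two_le hidx (by
    obtain ⟨k, rfl⟩ : ∃ k, n = k + 3 := ⟨n - 3, by omega⟩
    rw [show k + 3 - 1 = k + 2 by omega]
    nlinarith)
  refine goodD_of hu (fun P hP => isCyclic_of_good (PSL.good hn hu hL) hP) PSL.inn_le
    (fun h1 => PSL.not_dvd hL (h1.trans PSL.relIndex_dvd)) (PSL.index_le hn hf hF) hj hT hR
    (fun x hx => fus_psl hu he hx) ?_
  exact_mod_cast hest

end psl

section psu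

open Cfsg.Agent.ClassicalGeometry.UnitAutBasic Cfsg.Agent.ClassicalGeometry.PSUAutCount
open Cfsg.Agent.LieClassical.HermSiegel (mat)

variable {F : Type} [Field F] [Fintype F] {n q : ℕ}

theorem smul_of_pr_eq (hF : Fintype.card F = q ^ 2) (hn : 3 ≤ n) {g h : SU n F q} (e : pr n F q g = pr n F q h) :
    ∃ c : F, mat h = c • mat g := by
  obtain ⟨c, -, hx⟩ := exists_scalar_of_mem_center hF hn (pr_eq_pr_iff.1 e)
  refine ⟨c, ?_⟩
  apply Matrix.toLin'.injective
  apply LinearMap.ext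
  intro x
  rw [Matrix.toLin'_apply, Matrix.toLin'_apply, smul_mulVec]
  have h1 := congrArg (LieClassical.HermSiegel.act g) (hx x)
  rw [← LieClassical.HermSiegel.act_mul, mul_inv_cancel_left, LieClassical.HermSiegel.act_smul] at h1
  exact h1

omit [Fintype F] in
theorem mat_semiConj (P : GU n F q) (g : SU n F q) :
    mat (semiConj P (RingEquiv.refl F) g) = gm P * mat g * gm P⁻¹ := by
  apply Matrix.toLin'.injective
  apply LinearMap.ext
  intro x
  rw [Matrix.toLin'_apply, Matrix.toLin'_apply, ← mulVec_mulVec, ← mulVec_mulVec]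
  exact PSU.act_refl P g x

theorem fus_psu (hF : Fintype.card F = q ^ 2) (hn : 3 ≤ n) {u b : ℕ} (hu : u.Prime)
    (he : 2 ≤ orderOf ((Fintype.card F : ℕ) : ZMod u))
    {x : PSU n F q} (hx : orderOf x = u ^ (b + 1)) : fusD (PSU.hom n F q).range x ≤ n := by
  have hfin : Finite (SU n F q) := inferInstance
  have h1 := fusD_le (ι := Fin n) (K := F)
    ((Matrix.SpecialLinearGroup.toGL : Matrix.SpecialLinearGroup (Fin n) F →* GL (Fin n) F).comp (SU n F q).subtype)
    (fun a b hab => Subtype.ext (Subtype.ext (congrArg Units.val hab)))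
    (pr n F q) pr_surjective
    (fun k hk => by
      obtain ⟨c, hc⟩ := smul_of_pr_eq hF hn (g := 1) (h := k) (by rw [hk, map_one])
      exact ⟨c, hc⟩)
    hu (cast_ne_zero_of_order hu he) (scal_of_order hu he) (PSU.hom n F q).range (by
      rintro _ ⟨P, rfl⟩
      refine ⟨(P : GL (Fin n) F), fun g h hgh => ?_⟩
      have h2 : pr n F q h = pr n F q (semiConj P (RingEquiv.refl F) g) := hgh
      obtain ⟨c, hc⟩ := smul_of_pr_eq hF hn h2.symm
      rw [mat_semiConj] at hc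
      exact ⟨c, hc⟩) hx
  rwa [Fintype.card_fin] at h1

/-- **`PSU_n(q)`** from a level `e ≥ 3` -/
theorem good_psu_lev (hF : Fintype.card F = q ^ 2) (hn : 3 ≤ n) (h32 : ¬ (n = 3 ∧ q = 2)) {M : Subgroup (PSU n F q)}
    (hM : M ≠ ⊤) {u j : ℕ} (hu : u.Prime) (hL : LevP (.psu n q) u) (hj : 1 ≤ j) (hT : u ^ j ∣ Nat.card (PSU n F q))
    (hR : ¬ u ^ j ∣ Nat.card M) : GoodD 144 (PSU n F q) M := by
  have he : 2 ≤ orderOf ((Fintype.card F : ℕ) : ZMod u) := by
    obtain ⟨e, he, -, -, ho⟩ := hL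
    have h1 : ((Fintype.card F : ℕ) : ZMod u) = (-(q : ZMod u)) ^ 2 := by
      rw [hF]
      push_cast
      ring
    rw [h1, orderOf_pow' _ two_ne_zero, ho]
    have h2 : Nat.gcd e 2 ≤ 2 := Nat.gcd_le_right _ two_pos
    have h3 : 0 < Nat.gcd e 2 := Nat.gcd_pos_of_pos_right _ two_pos
    have h4 : Nat.gcd e 2 ∣ e := Nat.gcd_dvd_left _ _
    by_contra h6
    have h7 : e / Nat.gcd e 2 ≤ 1 := by omega
    have h8 : Nat.gcd e 2 * (e / Nat.gcd e 2) = e := Nat.mul_div_cancel' h4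
    have h9 : Nat.gcd e 2 * (e / Nat.gcd e 2) ≤ 2 * 1 := Nat.mul_le_mul h2 h7
    omega
  obtain ⟨p, f', hp, hf', hF'⟩ := H934.OutCl.exists_pf F
  have := Fact.mk hp
  obtain ⟨f, hf, hq⟩ : ∃ f, 1 ≤ f ∧ q = p ^ f := by
    have h1 : q ∣ p ^ f' := by
      rw [← hF', hF]
      exact dvd_pow_self q two_ne_zero
    obtain ⟨f, -, hq⟩ := (Nat.dvd_prime_pow hp).1 h1
    refine ⟨f, ?_, hq⟩
    rcases Nat.eq_zero_or_pos f with h2 | h2
    · rw [h2, pow_zero] at hq
      have := LieClassical.HermBasic.two_le hF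
      omega
    · exact h2
  have hfin : Finite (SU n F q) := inferInstance
  have hfin2 : Finite (PSU n F q) := inferInstance
  have hs : IsSimpleGroup (PSU n F q) := S0283.result hF n hn h32
  have hidx := H934.IdxPSU.pow_le_index hF hn (MulEquiv.refl _) M hM
  subst hq
  have hest := estimate (o := 2 * f) (N := n) (k := 72) hp.two_le hidx (by
    obtain ⟨k, rfl⟩ : ∃ k, n = k + 3 := ⟨n - 3, by omega⟩
    rw [show k + 3 - 1 = k + 2 by omega]
    nlinarith)
  refine goodD_of hu (fun P hP => isCyclic_of_good (PSU.good hF hn h32 hu hL) hP) PSU.inn_le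
    (fun h1 => PSU.not_dvd hL (h1.trans (PSU.relIndex_dvd hF (by omega)))) (PSU.index_le hF hn h32 hf rfl) hj hT hR
    (fun x hx => fus_psu hF hn hu he hx) ?_
  exact_mod_cast hest

/-- **`PSU_n(q)`**, `n ≥ 4` -/
theorem good_psu (hF : Fintype.card F = q ^ 2) (hn : 4 ≤ n) {M : Subgroup (PSU n F q)} (hM : M ≠ ⊤)
    (h : BigPow (.psu n q) M) : GoodD 144 (PSU n F q) M := by
  obtain ⟨u, j, ⟨hu, hlt, hle⟩, hj, hT, hR⟩ := h
  exact good_psu_lev hF (by omega) (by omega) hM hu ⟨_, by omega, hlt, hle, rfl⟩ hj hT hR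

end psu

end Cfsg.Agent.H491.Dp
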